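import Mathlib.Topology.Sheaves.Functors
import Mathlib.Topology.Sheaves.LocalPredicate
import Mathlib.Topology.Sheaves.Forget
import Mathlib.Topology.Sheaves.AddCommGrpCat
import Mathlib.CategoryTheory.Sites.Equivalence
import Mathlib.Topology.LocallyConstant.Basic
import Mathlib.Algebra.Category.Grp.Limits
import Mathlib.Algebra.Category.Grp.FilteredColimits

/-!
Quasi-homeomorphisms and equivalences of categories of sheaves.
-/

set_option autoImplicit false
set_option linter.style.haveILetI false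
universe u

open CategoryTheory TopologicalSpace Opposite

namespace Groth.Agent.H1QuasiHomeo

abbrev Zv : Type u := ULift.{u} ℤ

variable {X : TopCat.{u}}

/-- A local predicate on functions which cuts out subgroups. -/
structure GrpPred (X : TopCat.{u}) extends TopCat.LocalPredicate (fun _ : X => Zv.{u}) where
  zero_mem : ∀ U : Opens X, pred (fun _ : U => (0 : Zv.{u}))
  add_mem : ∀ {U : Opens X} {f g : U → Zv.{u}}, pred f → pred g → pred (f + g)
  neg_mem : ∀ {U : Opens X} {f : U → Zv.{u}}, pred f → pred (-f)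

/-- The sections over an open. -/
def GrpPred.grp (P : GrpPred X) (U : Opens X) : AddSubgroup (U → Zv.{u}) where
  carrier := {f | P.pred f}
  zero_mem' := P.zero_mem U
  add_mem' := P.add_mem
  neg_mem' := P.neg_mem

/-- The presheaf of groups. -/
def GrpPred.presheaf (P : GrpPred X) : TopCat.Presheaf AddCommGrpCat.{u} X where
  obj U := AddCommGrpCat.of (P.grp U.unop)
  map {U V} i := AddCommGrpCat.ofHom
    { toFun := fun f => ⟨fun x => f.1 (i.unop x), P.res i.unop _ f.2⟩
      map_zero' := rfl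
      map_add' := fun _ _ => rfl }

/-- The sheaf of groups. -/
def GrpPred.sheaf (P : GrpPred X) : TopCat.Sheaf AddCommGrpCat.{u} X :=
  ⟨P.presheaf, (TopCat.Presheaf.isSheaf_iff_isSheaf_comp (CategoryTheory.forget AddCommGrpCat.{u}) P.presheaf).2
    (TopCat.Presheaf.isSheaf_of_iso (NatIso.ofComponents (fun _ => Iso.refl _) (fun _ => rfl))
      (TopCat.subpresheafToTypes.isSheaf P.toLocalPredicate))⟩

/-- Locally constant functions. -/
def lc (X : TopCat.{u}) : GrpPred X where
  pred {U} f := ∀ x : U, ∃ W : Opens X, x.1 ∈ W ∧ ∀ y : U, y.1 ∈ W → f y = f x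
  res {U V} i f h x := by
    obtain ⟨W, hx, hW⟩ := h (i x)
    exact ⟨W, hx, fun y hy => hW (i y) hy⟩
  locality {U} f h x := by
    obtain ⟨V, hx, i, hV⟩ := h x
    obtain ⟨W, hxW, hW⟩ := hV ⟨x.1, hx⟩
    exact ⟨W ⊓ V, ⟨hxW, hx⟩, fun y hy => hW ⟨y.1, hy.2⟩ hy.1⟩
  zero_mem U x := ⟨⊤, trivial, fun _ _ => rfl⟩
  add_mem {U f g} hf hg x := by
    obtain ⟨W, hx, hW⟩ := hf x
    obtain ⟨W', hx', hW'⟩ := hg x
    exact ⟨W ⊓ W', ⟨hx, hx'⟩, fun y hy => by rw [Pi.add_apply, Pi.add_apply, hW y hy.1, hW' y hy.2]⟩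
  neg_mem {U f} hf x := by
    obtain ⟨W, hx, hW⟩ := hf x
    exact ⟨W, hx, fun y hy => by rw [Pi.neg_apply, Pi.neg_apply, hW y hy]⟩

/-- Functions vanishing outside `S`. -/
def supp (S : Set X) : GrpPred X where
  pred {U} f := ∀ x : U, x.1 ∉ S → f x = 0
  res {U V} i f h x hx := h (i x) hx
  locality {U} f h x hx := by
    obtain ⟨V, hxV, i, hV⟩ := h x
    exact hV ⟨x.1, hxV⟩ hx
  zero_mem U x _ := rfl
  add_mem {U f g} hf hg x hx := by rw [Pi.add_apply, hf x hx, hg x hx, add_zero]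
  neg_mem {U f} hf x hx := by rw [Pi.neg_apply, hf x hx, neg_zero]

/-- Locally constant functions vanishing outside `S`. -/
def lcSupp (S : Set X) : GrpPred X where
  pred {U} f := (lc X).pred f ∧ (supp S).pred f
  res {U V} i f h := ⟨(lc X).res i f h.1, (supp S).res i f h.2⟩
  locality {U} f h := ⟨(lc X).locality f fun x => let ⟨V, hx, i, hV⟩ := h x; ⟨V, hx, i, hV.1⟩,
    (supp S).locality f fun x => let ⟨V, hx, i, hV⟩ := h x; ⟨V, hx, i, hV.2⟩⟩
  zero_mem U := ⟨(lc X).zero_mem U, (supp S).zero_mem U⟩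
  add_mem hf hg := ⟨(lc X).add_mem hf.1 hg.1, (supp S).add_mem hf.2 hg.2⟩
  neg_mem hf := ⟨(lc X).neg_mem hf.1, (supp S).neg_mem hf.2⟩

/-- The sheaf of subsingletons of an open. -/
def sub (V : Opens X) : TopCat.LocalPredicate (fun _ : X => PUnit.{u + 1}) where
  pred {U} _ := ∀ x : U, x.1 ∈ V
  res {U W} i f h x := h (i x)
  locality {U} f h x := by
    obtain ⟨W, hx, i, hW⟩ := h x
    exact hW ⟨x.1, hx⟩

variable {X₀ : TopCat.{u}} (f : X₀ ⟶ X)

/-- Opens with equal preimage are equal, given a sheaf-level argument. -/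
theorem le_of_preimage_eq {U U' : Opens X}
    (h : (Opens.map f).obj U = (Opens.map f).obj U')
    (key : ∀ y ∈ U', y ∈ U ∨ ∃ (G : Opens X → Type u) (_ : Subsingleton (G U)) (_ : Nontrivial (G U'))
      (H : Opens X₀ → Type u), ∀ W, Nonempty (G W ≃ H ((Opens.map f).obj W))) : U' ≤ U := fun y hy => by
  rcases key y hy with hy' | ⟨G, hG, hG', H, e⟩
  · exact hy'
  exfalso
  obtain ⟨e₁⟩ := e U
  obtain ⟨e₂⟩ := e U'
  rw [h] at e₁
  exact not_subsingleton (G U') (e₂.trans e₁.symm).subsingleton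

theorem injective_types [(TopCat.Sheaf.pushforward (Type u) f).IsEquivalence] :
    Function.Injective (fun U : Opens X => (Opens.map f).obj U) := by
  have key : ∀ U U' : Opens X, (Opens.map f).obj U = (Opens.map f).obj U' → U' ≤ U := fun U U' h => by
    refine le_of_preimage_eq f h fun y hy => or_iff_not_imp_left.2 fun hyU => ?_
    let S := TopCat.subsheafToTypes (supp ({y} : Set X)).toLocalPredicate
    let H := (TopCat.Sheaf.pushforward (Type u) f).objPreimage S
    refine ⟨fun W => S.obj.obj (op W), ?_, ?_, fun W => H.obj.obj (op W), fun W =>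
      ⟨((((TopCat.Sheaf.forget (Type u) X).mapIso
        ((TopCat.Sheaf.pushforward (Type u) f).objObjPreimageIso S)).app (op W)).toEquiv).symm⟩⟩
    · exact ⟨fun a b => Subtype.ext (funext fun x => (a.2 x fun hx => hyU (hx ▸ x.2)).trans
        (b.2 x fun hx => hyU (hx ▸ x.2)).symm)⟩
    · classical
      refine ⟨⟨⟨fun _ => 0, fun _ _ => rfl⟩, ⟨fun x => if x.1 = y then 1 else 0, fun x hx => if_neg hx⟩, ?_⟩⟩
      intro hc
      have := congrFun (congrArg Subtype.val hc) ⟨y, hy⟩
      simp at this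
  exact fun U U' h => le_antisymm (key U' U h.symm) (key U U' h)

theorem injective_ab [(TopCat.Sheaf.pushforward AddCommGrpCat.{u} f).IsEquivalence] :
    Function.Injective (fun U : Opens X => (Opens.map f).obj U) := by
  have key : ∀ U U' : Opens X, (Opens.map f).obj U = (Opens.map f).obj U' → U' ≤ U := fun U U' h => by
    refine le_of_preimage_eq f h fun y hy => or_iff_not_imp_left.2 fun hyU => ?_
    let S := (supp ({y} : Set X)).sheaf
    let H := (TopCat.Sheaf.pushforward AddCommGrpCat.{u} f).objPreimage S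
    refine ⟨fun W => S.obj.obj (op W), ?_, ?_, fun W => H.obj.obj (op W), fun W =>
      ⟨((((TopCat.Sheaf.forget AddCommGrpCat.{u} X).mapIso
        ((TopCat.Sheaf.pushforward AddCommGrpCat.{u} f).objObjPreimageIso S)).app
          (op W)).addCommGroupIsoToAddEquiv.toEquiv).symm⟩⟩
    · exact ⟨fun a b => Subtype.ext (funext fun x => (a.2 x fun hx => hyU (hx ▸ x.2)).trans
        (b.2 x fun hx => hyU (hx ▸ x.2)).symm)⟩
    · classical
      refine ⟨⟨⟨fun _ => 0, fun _ _ => rfl⟩, ⟨fun x => if x.1 = y then 1 else 0, fun x hx => if_neg hx⟩, ?_⟩⟩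
      intro hc
      have := congrFun (congrArg Subtype.val hc) ⟨y, hy⟩
      simp at this
  exact fun U U' h => le_antisymm (key U' U h.symm) (key U U' h)

/-- A bijection on opens from nested preimages. -/
theorem surjective_of (key : ∀ (V : Opens X₀), ∀ x ∈ V, ∃ U : Opens X, f x ∈ U ∧ (Opens.map f).obj U ≤ V) :
    Function.Surjective (fun U : Opens X => (Opens.map f).obj U) := fun V => by
  refine ⟨sSup {U | (Opens.map f).obj U ≤ V}, le_antisymm ?_ ?_⟩
  · intro x hx
    obtain ⟨U, hU, hxU⟩ := Opens.mem_sSup.1 hx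
    exact hU hxU
  · intro x hx
    obtain ⟨U, hxU, hU⟩ := key V x hx
    exact Opens.mem_sSup.2 ⟨U, hU, hxU⟩

theorem surjective_types [(TopCat.Sheaf.pushforward (Type u) f).IsEquivalence] :
    Function.Surjective (fun U : Opens X => (Opens.map f).obj U) := by
  refine surjective_of f fun V x hx => ?_
  let V' : Opens X₀ := (Opens.map f).obj (sSup {U | (Opens.map f).obj U ≤ V})
  have hle : V' ≤ V := fun z hz => by
    obtain ⟨U, hU, hzU⟩ := Opens.mem_sSup.1 hz
    exact hU hzU
  let S' := TopCat.subsheafToTypes (sub V')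
  let S := TopCat.subsheafToTypes (sub V)
  let φ : S' ⟶ S := ⟨{ app := fun W => ↾fun s => ⟨s.1, fun z => hle (s.2 z)⟩, naturality := fun _ _ _ => rfl }⟩
  haveI : IsIso ((TopCat.Sheaf.pushforward (Type u) f).map φ) := by
    suffices h : IsIso ((TopCat.Sheaf.forget (Type u) X).map ((TopCat.Sheaf.pushforward (Type u) f).map φ)) from
      isIso_of_reflects_iso _ (TopCat.Sheaf.forget (Type u) X)
    rw [NatTrans.isIso_iff_isIso_app]
    intro W
    rw [isIso_iff_bijective]
    refine ⟨fun a b _ => Subtype.ext (funext fun _ => Subsingleton.elim _ _), fun b => ⟨⟨b.1, fun z => ?_⟩, rfl⟩⟩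
    exact Opens.mem_sSup.2 ⟨W.unop, fun w hw => b.2 ⟨w, hw⟩, z.2⟩
  haveI : IsIso φ := isIso_of_reflects_iso φ (TopCat.Sheaf.pushforward (Type u) f)
  let t := (inv φ).hom.app (op V) ⟨fun _ => PUnit.unit, fun z => z.2⟩
  obtain ⟨U, hU, hxU⟩ := Opens.mem_sSup.1 (t.2 ⟨x, hx⟩)
  exact ⟨U, hxU, hU⟩

theorem exists_glue (H : TopCat.Sheaf AddCommGrpCat.{u} X₀) {W T T' : Opens X₀} (hT : T ≤ W) (hT' : T' ≤ W)
    (hcov : W ≤ T ⊔ T') (hdis : T ⊓ T' = ⊥) (s : H.obj.obj (op W)) :
    ∃ s' : H.obj.obj (op W), H.obj.map (homOfLE hT).op s' = H.obj.map (homOfLE hT).op s ∧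
      H.obj.map (homOfLE hT').op s' = 0 := by
  let U : ULift.{u} Bool → Opens X₀ := fun b => cond b.down T T'
  let sf : ∀ b, H.obj.obj (op (U b)) := fun b =>
    match b with
    | ⟨true⟩ => H.obj.map (homOfLE hT).op s
    | ⟨false⟩ => (0 : H.obj.obj (op T'))
  have hbot : ∀ (Z : Opens X₀), Z ≤ ⊥ → ∀ a b : H.obj.obj (op Z), a = b := fun Z hZ a b =>
    TopCat.Sheaf.eq_of_locally_eq' H (fun e : PEmpty.{u + 1} => PEmpty.elim e) Z (fun e => e.elim)
      (fun z hz => (hZ hz).elim) a b (fun e => e.elim)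
  obtain ⟨g, hg, -⟩ := TopCat.Sheaf.existsUnique_gluing' H U W
    (fun b => homOfLE (by rcases b with ⟨_ | _⟩ <;> assumption))
    (fun z hz => by
      rcases hcov hz with h | h
      · exact Opens.mem_iSup.2 ⟨⟨true⟩, h⟩
      · exact Opens.mem_iSup.2 ⟨⟨false⟩, h⟩) sf (fun a b => by
      rcases a with ⟨_ | _⟩ <;> rcases b with ⟨_ | _⟩
      · rfl
      · exact hbot _ (by rw [← hdis, inf_comm]; exact le_rfl) _ _
      · exact hbot _ (by rw [← hdis]; exact le_rfl) _ _
      · rfl)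
  exact ⟨g, hg ⟨true⟩, hg ⟨false⟩⟩

theorem surjective_ab [(TopCat.Sheaf.pushforward AddCommGrpCat.{u} f).IsEquivalence] :
    Function.Surjective (fun U : Opens X => (Opens.map f).obj U) := by
  classical
  let P := TopCat.Sheaf.pushforward AddCommGrpCat.{u} f
  -- clopen parts of preimages are preimages
  have clopen : ∀ (U : Opens X) (T T' : Opens X₀), T ≤ (Opens.map f).obj U → T' ≤ (Opens.map f).obj U →
      (Opens.map f).obj U ≤ T ⊔ T' → T ⊓ T' = ⊥ → ∃ U₁ : Opens X, (Opens.map f).obj U₁ = T := by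
    intro U T T' hT hT' hcov hdis
    let L := (lc X).sheaf
    let K := (supp (Set.univ : Set X₀)).sheaf
    let ev : L ⟶ P.obj K := ⟨
      { app := fun W => AddCommGrpCat.ofHom
          { toFun := fun g => ⟨fun x => g.1 ⟨f x.1, x.2⟩, fun x hx => (hx trivial).elim⟩
            map_zero' := rfl
            map_add' := fun _ _ => rfl }
        naturality := fun _ _ _ => rfl }⟩
    let i := P.objObjPreimageIso L
    let ev' := P.preimage (i.hom ≫ ev)
    let one : L.obj.obj (op U) := ⟨fun _ => 1, fun x => ⟨⊤, trivial, fun _ _ => rfl⟩⟩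
    let s := i.inv.hom.app (op U) one
    obtain ⟨s', h₁, h₂⟩ := exists_glue (P.objPreimage L) hT hT' hcov hdis s
    let g : L.obj.obj (op U) := i.hom.hom.app (op U) s'
    have hev : ∀ (z : (P.objPreimage L).obj.obj (op ((Opens.map f).obj U))),
        ev'.hom.app (op ((Opens.map f).obj U)) z = ev.hom.app (op U) (i.hom.hom.app (op U) z) := fun z => by
      have := ConcreteCategory.congr_hom
        (congrArg (fun q => q.hom.app (op U)) (P.map_preimage (i.hom ≫ ev))) z
      exact this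
    have hone : ∀ x, (ev'.hom.app (op ((Opens.map f).obj U)) s).1 x = (1 : Zv.{u}) := fun x => by
      refine (congrArg (fun q => q.1 x) (hev s)).trans ?_
      have : i.hom.hom.app (op U) s = one :=
        ConcreteCategory.congr_hom (congrArg (fun q => q.hom.app (op U)) i.inv_hom_id) one
      refine (congrArg (fun q => (ev.hom.app (op U) q).1 x) this).trans ?_
      rfl
    have hT1 : ∀ x : (Opens.map f).obj U, x.1 ∈ T → g.1 ⟨f x.1, x.2⟩ = 1 := fun x hx => by
      have a := congrArg (fun q => q.1 ⟨x.1, hx⟩) ((congrArg (ev'.hom.app (op T)) h₁))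
      have n : ∀ z, (ev'.hom.app (op T) ((P.objPreimage L).obj.map (homOfLE hT).op z)).1 ⟨x.1, hx⟩ =
          (ev'.hom.app (op ((Opens.map f).obj U)) z).1 x := fun z =>
        congrArg (fun q => q.1 ⟨x.1, hx⟩) (NatTrans.naturality_apply ev'.hom (homOfLE hT).op z)
      exact ((congrArg (fun q => q.1 x) (hev s')).symm.trans ((n s').symm.trans (a.trans (n s)))).trans (hone x)
    have hT2 : ∀ x : (Opens.map f).obj U, x.1 ∈ T' → g.1 ⟨f x.1, x.2⟩ = 0 := fun x hx => by
      have a := congrArg (fun q => q.1 ⟨x.1, hx⟩) ((congrArg (ev'.hom.app (op T')) h₂))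
      have n : (ev'.hom.app (op T') ((P.objPreimage L).obj.map (homOfLE hT').op s')).1 ⟨x.1, hx⟩ =
          (ev'.hom.app (op ((Opens.map f).obj U)) s').1 x :=
        congrArg (fun q => q.1 ⟨x.1, hx⟩) (NatTrans.naturality_apply ev'.hom (homOfLE hT').op s')
      exact (congrArg (fun q => q.1 x) (hev s')).symm.trans (n.symm.trans
        (a.trans (congrArg (fun q => q.1 ⟨x.1, hx⟩) (map_zero (ev'.hom.app (op T')).hom))))
    refine ⟨⟨{y | ∃ hy : y ∈ U, g.1 ⟨y, hy⟩ = 1}, isOpen_iff_forall_mem_open.2 ?_⟩, ?_⟩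
    · rintro y ⟨hy, hgy⟩
      obtain ⟨W, hyW, hW⟩ := g.2 ⟨y, hy⟩
      exact ⟨(W : Set X) ∩ U, fun z hz => ⟨hz.2, (hW ⟨z, hz.2⟩ hz.1).trans hgy⟩, W.isOpen.inter U.isOpen, hyW, hy⟩
    · refine le_antisymm ?_ fun x hx => ⟨hT hx, hT1 ⟨x, hT hx⟩ hx⟩
      rintro x ⟨hx, hgx⟩
      rcases hcov (show x ∈ (Opens.map f).obj U from hx) with h | h
      · exact h
      · have := (hT2 ⟨x, hx⟩ h).symm.trans hgx
        simp at this
  refine surjective_of f fun V x hx => ?_
  obtain ⟨U, hxU, g, hg⟩ : ∃ (U : Opens X) (hxU : f x ∈ U)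
      (g : (lcSupp (V : Set X₀)).sheaf.obj.obj (op ((Opens.map f).obj U))), g.1 ⟨x, hxU⟩ ≠ 0 := by
    by_contra hcon
    push Not at hcon
    let M := (lcSupp (V : Set X₀)).sheaf
    let N := (supp ({x} : Set X₀)).sheaf
    let φ : M ⟶ N := ⟨
      { app := fun W => AddCommGrpCat.ofHom
          { toFun := fun g => ⟨fun z => if z.1 = x then g.1 z else 0, fun z hz => if_neg hz⟩
            map_zero' := Subtype.ext (funext fun z => ite_self (0 : Zv.{u}))
            map_add' := fun g g' => Subtype.ext (funext fun z => by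
              show (if z.1 = x then g.1 z + g'.1 z else 0) = _
              by_cases hz : z.1 = x <;> simp [hz]) }
        naturality := fun _ _ _ => rfl }⟩
    have h0 : φ = 0 := P.map_injective (by
      rw [Functor.map_zero]
      apply Sheaf.hom_ext
      ext W g
      refine Subtype.ext (funext fun z => ?_)
      show (if z.1 = x then g.1 z else 0) = 0
      by_cases hz : z.1 = x
      · rw [if_pos hz]
        obtain ⟨z, hzW⟩ := z
        subst hz
        exact hcon W.unop hzW g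
      · rw [if_neg hz])
    have := congrArg (fun q => (q.hom.app (op V) ⟨fun _ => (1 : Zv.{u}),
      fun z => ⟨⊤, trivial, fun _ _ => rfl⟩, fun z hz => (hz z.2).elim⟩).1 ⟨x, hx⟩) h0
    simp only [φ] at this
    exact one_ne_zero ((if_pos rfl).symm.trans this)
  have hop : ∀ (p : Zv.{u} → Prop), IsOpen {z : X₀ | ∃ hz : z ∈ (Opens.map f).obj U, p (g.1 ⟨z, hz⟩)} := fun p => by
    refine isOpen_iff_forall_mem_open.2 ?_
    rintro z ⟨hz, hpz⟩
    obtain ⟨W, hzW, hW⟩ := g.2.1 ⟨z, hz⟩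
    exact ⟨(W : Set X₀) ∩ (Opens.map f).obj U, fun w hw => ⟨hw.2, (hW ⟨w, hw.2⟩ hw.1).symm ▸ hpz⟩,
      W.isOpen.inter ((Opens.map f).obj U).isOpen, hzW, hz⟩
  obtain ⟨U₁, hU₁⟩ := clopen U ⟨_, hop (· ≠ 0)⟩ ⟨_, hop (· = 0)⟩ (fun z hz => hz.1) (fun z hz => hz.1)
    (fun z hz => (em (g.1 ⟨z, hz⟩ = 0)).elim (fun h => Or.inr ⟨hz, h⟩) fun h => Or.inl ⟨hz, h⟩)
    (le_bot_iff.1 fun z hz => (hz.1.2 hz.2.2).elim)
  refine ⟨U₁, (hU₁.ge ⟨hxU, hg⟩ : _), fun z hz => ?_⟩
  obtain ⟨hz', hgz⟩ := hU₁.le hz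
  by_contra hzV
  exact hgz (g.2.2 ⟨z, hz'⟩ hzV)

theorem isEquivalence_pushforward (hbij : Function.Bijective (fun U : Opens X => (Opens.map f).obj U))
    (C : Type (u + 1)) [Category.{u} C] [Limits.HasLimitsOfSize.{u, u} C] :
    (TopCat.Sheaf.pushforward C f).IsEquivalence := by
  have hle : ∀ U V : Opens X, (Opens.map f).obj U ≤ (Opens.map f).obj V → U ≤ V := fun U V h => by
    have : (Opens.map f).obj (U ⊔ V) = (Opens.map f).obj V := le_antisymm
      (fun x hx => hx.elim (fun h' => h h') id) (fun x hx => Or.inr hx)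
    exact le_sup_left.trans (hbij.1 this).le
  haveI : (Opens.map f).Faithful := ⟨fun _ => Subsingleton.elim _ _⟩
  haveI : (Opens.map f).Full := ⟨fun {U V} g => ⟨homOfLE (hle U V (leOfHom g)), Subsingleton.elim _ _⟩⟩
  haveI : (Opens.map f).EssSurj := ⟨fun V => ⟨(hbij.2 V).choose, ⟨eqToIso (hbij.2 V).choose_spec⟩⟩⟩
  haveI : (Opens.map f).IsEquivalence := { }
  haveI : (Opens.map f).IsDenseSubsite (Opens.grothendieckTopology X) (Opens.grothendieckTopology X₀) :=
    { functorPushforward_mem_iff := fun {U S} => by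
        constructor
        · intro h x hx
          let W : Opens X := sSup {V | ∃ i : V ⟶ U, S.arrows i}
          have hW : (Opens.map f).obj U ≤ (Opens.map f).obj W := fun z hz => by
            obtain ⟨V', i, ⟨V, j, k, hj, -⟩, hzV⟩ := h z hz
            exact Opens.mem_sSup.2 ⟨V, ⟨j, hj⟩, leOfHom k hzV⟩
          obtain ⟨V, ⟨i, hi⟩, hxV⟩ := Opens.mem_sSup.1 (hle _ _ hW hx)
          exact ⟨V, i, hi, hxV⟩
        · intro h z hz
          obtain ⟨V, i, hi, hzV⟩ := h (f z) hz
          exact ⟨_, (Opens.map f).map i, Sieve.image_mem_functorPushforward _ _ hi, hzV⟩ }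
  exact inferInstanceAs ((Opens.map f).sheafPushforwardContinuous C
    (Opens.grothendieckTopology X) (Opens.grothendieckTopology X₀)).IsEquivalence

end Groth.Agent.H1QuasiHomeo
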